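import Cfsg.Agent.Lib.SpO.Th.XDefs

set_option autoImplicit false
set_option maxRecDepth 100000
set_option Elab.async false
set_option linter.unusedSectionVars false

namespace Cfsg.Agent.SpO.Th
open Cfsg.Agent.CG Cfsg.Agent.SpO

theorem c0 : chkDef 12 (appT tabs CG.ThC.t76 0xfff) 76 (slp 76) 0 270 = true := by decide +kernel
theorem c1 : chkDef 12 (appT tabs CG.ThC.t76 0xfff) 77 (slp 77) 0 270 = true := by decide +kernel
theorem c2 : chkDef 12 (appT tabs CG.ThC.t76 0xfff) 78 (slp 78) 0 270 = true := by decide +kernel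
theorem c3 : chkDef 12 (appT tabs CG.ThC.t76 0xfff) 79 (slp 79) 0 270 = true := by decide +kernel
theorem c4 : chkDef 12 (appT tabs CG.ThC.t76 0xfff) 80 (slp 80) 0 270 = true := by decide +kernel
theorem c5 : chkDef 12 (appT tabs CG.ThC.t76 0xfff) 81 (slp 81) 0 270 = true := by decide +kernel
theorem c6 : chkDef 12 (appT tabs CG.ThC.t76 0xfff) 82 (slp 82) 0 270 = true := by decide +kernel
theorem c7 : chkDef 12 (appT tabs CG.ThC.t76 0xfff) 83 (slp 83) 0 270 = true := by decide +kernel
theorem c8 : chkDef 12 (appT tabs CG.ThC.t76 0xfff) 84 (slp 84) 0 270 = true := by decide +kernel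
theorem c9 : chkDef 12 (appT tabs CG.ThC.t76 0xfff) 85 (slp 85) 0 270 = true := by decide +kernel
theorem c10 : chkDef 12 (appT tabs CG.ThC.t76 0xfff) 86 (slp 86) 0 270 = true := by decide +kernel
theorem c11 : chkDef 12 (appT tabs CG.ThC.t76 0xfff) 87 (slp 87) 0 270 = true := by decide +kernel
theorem c12 : chkDef 12 (appT tabs CG.ThC.t76 0xfff) 88 (slp 88) 0 270 = true := by decide +kernel
theorem c13 : chkDef 12 (appT tabs CG.ThC.t76 0xfff) 89 (slp 89) 0 270 = true := by decide +kernel
theorem c14 : chkDef 12 (appT tabs CG.ThC.t76 0xfff) 90 (slp 90) 0 270 = true := by decide +kernel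
theorem c15 : chkDef 12 (appT tabs CG.ThC.t76 0xfff) 91 (slp 91) 0 270 = true := by decide +kernel
theorem c16 : chkDef 12 (appT tabs CG.ThC.t76 0xfff) 92 (slp 92) 0 270 = true := by decide +kernel
theorem c17 : chkDef 12 (appT tabs CG.ThC.t76 0xfff) 93 (slp 93) 0 270 = true := by decide +kernel
theorem c18 : chkDef 12 (appT tabs CG.ThC.t76 0xfff) 94 (slp 94) 0 270 = true := by decide +kernel
theorem c19 : chkDef 12 (appT tabs CG.ThC.t76 0xfff) 95 (slp 95) 0 270 = true := by decide +kernel
theorem c20 : chkDef 12 (appT tabs CG.ThC.t76 0xfff) 96 (slp 96) 0 270 = true := by decide +kernel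
theorem c21 : chkDef 12 (appT tabs CG.ThC.t76 0xfff) 97 (slp 97) 0 270 = true := by decide +kernel
theorem c22 : chkDef 12 (appT tabs CG.ThC.t76 0xfff) 98 (slp 98) 0 270 = true := by decide +kernel
theorem c23 : chkDef 12 (appT tabs CG.ThC.t76 0xfff) 99 (slp 99) 0 270 = true := by decide +kernel
theorem c24 : chkDef 12 (appT tabs CG.ThC.t76 0xfff) 100 (slp 100) 0 270 = true := by decide +kernel
theorem c25 : chkDef 12 (appT tabs CG.ThC.t76 0xfff) 101 (slp 101) 0 270 = true := by decide +kernel
theorem c26 : chkDef 12 (appT tabs CG.ThC.t76 0xfff) 102 (slp 102) 0 270 = true := by decide +kernel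
theorem c27 : chkDef 12 (appT tabs CG.ThC.t76 0xfff) 103 (slp 103) 0 270 = true := by decide +kernel
theorem c28 : chkDef 12 (appT tabs CG.ThC.t76 0xfff) 104 (slp 104) 0 270 = true := by decide +kernel
theorem c29 : chkDef 12 (appT tabs CG.ThC.t76 0xfff) 105 (slp 105) 0 270 = true := by decide +kernel
theorem c30 : chkDef 12 (appT tabs CG.ThC.t76 0xfff) 106 (slp 106) 0 270 = true := by decide +kernel
theorem c31 : chkDef 12 (appT tabs CG.ThC.t76 0xfff) 107 (slp 107) 0 270 = true := by decide +kernel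
theorem c32 : chkDef 12 (appT tabs CG.ThC.t76 0xfff) 108 (slp 108) 0 270 = true := by decide +kernel
theorem c33 : chkDef 12 (appT tabs CG.ThC.t76 0xfff) 109 (slp 109) 0 270 = true := by decide +kernel
theorem c34 : chkDef 12 (appT tabs CG.ThC.t76 0xfff) 110 (slp 110) 0 270 = true := by decide +kernel
theorem c35 : chkDef 12 (appT tabs CG.ThC.t76 0xfff) 111 (slp 111) 0 270 = true := by decide +kernel
theorem c36 : chkDef 12 (appT tabs CG.ThC.t76 0xfff) 112 (slp 112) 0 270 = true := by decide +kernel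
theorem c37 : chkDef 12 (appT tabs CG.ThC.t76 0xfff) 113 (slp 113) 0 270 = true := by decide +kernel
theorem c38 : chkDef 12 (appT tabs CG.ThC.t76 0xfff) 114 (slp 114) 0 270 = true := by decide +kernel
theorem c39 : chkDef 12 (appT tabs CG.ThC.t76 0xfff) 115 (slp 115) 0 270 = true := by decide +kernel
theorem c40 : chkDef 12 (appT tabs CG.ThC.t76 0xfff) 116 (slp 116) 0 270 = true := by decide +kernel
theorem c41 : chkDef 12 (appT tabs CG.ThC.t76 0xfff) 117 (slp 117) 0 270 = true := by decide +kernel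
theorem c42 : chkDef 12 (appT tabs CG.ThC.t76 0xfff) 118 (slp 118) 0 270 = true := by decide +kernel
theorem c43 : chkDef 12 (appT tabs CG.ThC.t76 0xfff) 119 (slp 119) 0 270 = true := by decide +kernel
theorem c44 : chkDef 12 (appT tabs CG.ThC.t76 0xfff) 120 (slp 120) 0 270 = true := by decide +kernel
theorem c45 : chkDef 12 (appT tabs CG.ThC.t76 0xfff) 121 (slp 121) 0 270 = true := by decide +kernel
theorem c46 : chkDef 12 (appT tabs CG.ThC.t76 0xfff) 122 (slp 122) 0 270 = true := by decide +kernel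
theorem c47 : chkDef 12 (appT tabs CG.ThC.t76 0xfff) 123 (slp 123) 0 270 = true := by decide +kernel
theorem c48 : chkDef 12 (appT tabs CG.ThC.t76 0xfff) 124 (slp 124) 0 270 = true := by decide +kernel
theorem c49 : chkDef 12 (appT tabs CG.ThC.t76 0xfff) 125 (slp 125) 0 270 = true := by decide +kernel
theorem c50 : chkDef 12 (appT tabs CG.ThC.t76 0xfff) 126 (slp 126) 0 270 = true := by decide +kernel
theorem c51 : chkDef 12 (appT tabs CG.ThC.t76 0xfff) 127 (slp 127) 0 270 = true := by decide +kernel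
theorem c52 : chkDef 12 (appT tabs CG.ThC.t76 0xfff) 128 (slp 128) 0 270 = true := by decide +kernel
theorem c53 : chkDef 12 (appT tabs CG.ThC.t76 0xfff) 129 (slp 129) 0 270 = true := by decide +kernel
theorem c54 : chkDef 12 (appT tabs CG.ThC.t76 0xfff) 130 (slp 130) 0 270 = true := by decide +kernel
theorem c55 : chkDef 12 (appT tabs CG.ThC.t76 0xfff) 131 (slp 131) 0 270 = true := by decide +kernel
theorem c56 : chkDef 12 (appT tabs CG.ThC.t76 0xfff) 132 (slp 132) 0 270 = true := by decide +kernel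
theorem c57 : chkDef 12 (appT tabs CG.ThC.t76 0xfff) 133 (slp 133) 0 270 = true := by decide +kernel
theorem c58 : chkDef 12 (appT tabs CG.ThC.t76 0xfff) 134 (slp 134) 0 270 = true := by decide +kernel
theorem c59 : chkDef 12 (appT tabs CG.ThC.t76 0xfff) 135 (slp 135) 0 270 = true := by decide +kernel
theorem c60 : chkDef 12 (appT tabs CG.ThC.t76 0xfff) 136 (slp 136) 0 270 = true := by decide +kernel
theorem c61 : chkDef 12 (appT tabs CG.ThC.t76 0xfff) 137 (slp 137) 0 270 = true := by decide +kernel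
theorem c62 : chkDef 12 (appT tabs CG.ThC.t76 0xfff) 138 (slp 138) 0 270 = true := by decide +kernel
theorem c63 : chkDef 12 (appT tabs CG.ThC.t76 0xfff) 139 (slp 139) 0 270 = true := by decide +kernel
theorem c64 : chkDef 12 (appT tabs CG.ThC.t76 0xfff) 140 (slp 140) 0 270 = true := by decide +kernel
theorem c65 : chkDef 12 (appT tabs CG.ThC.t76 0xfff) 141 (slp 141) 0 270 = true := by decide +kernel
theorem c66 : chkDef 12 (appT tabs CG.ThC.t76 0xfff) 142 (slp 142) 0 270 = true := by decide +kernel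
theorem c67 : chkDef 12 (appT tabs CG.ThC.t76 0xfff) 143 (slp 143) 0 270 = true := by decide +kernel
theorem c68 : chkDef 12 (appT tabs CG.ThC.t76 0xfff) 144 (slp 144) 0 270 = true := by decide +kernel
theorem c69 : chkDef 12 (appT tabs CG.ThC.t76 0xfff) 145 (slp 145) 0 270 = true := by decide +kernel
theorem c70 : chkDef 12 (appT tabs CG.ThC.t76 0xfff) 146 (false, []) 0 270 = true := by decide +kernel
theorem c71 : pc0.chk (appT tabs CG.ThC.t76 0xfff) 1 251 = true := by decide +kernel
theorem c72 : pc1.chk (appT tabs CG.ThC.t76 0xfff) 1 23 = true := by decide +kernel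
theorem c73 : pc2.chk (appT tabs CG.ThC.t76 0xfff) 1 1 = true := by decide +kernel
theorem c74 : pc3.chk (appT tabs CG.ThC.t76 0xfff) 1 1 = true := by decide +kernel
theorem c75 : pc4.chk (appT tabs CG.ThC.t76 0xfff) 1 1 = true := by decide +kernel
theorem c76 : pc5.chk (appT tabs CG.ThC.t76 0xfff) 1 1 = true := by decide +kernel
theorem c77 : pc6.chk (appT tabs CG.ThC.t76 0xfff) 1 1 = true := by decide +kernel
theorem c78 : pc7.chk (appT tabs CG.ThC.t76 0xfff) 1 1 = true := by decide +kernel
theorem c79 : okcb 270 12 (bases pc) = true := by decide +kernel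
theorem c80 : headAll (appT tabs CG.ThC.t76 0xfff) pc [] = true := by decide +kernel
theorem c81 : md0.chk (appT tabs CG.ThC.t76 0xfff) 1 269 = true := by decide +kernel
theorem c82 : md1.chk (appT tabs CG.ThC.t76 0xfff) 1 27 = true := by decide +kernel
theorem c83 : md2.chk (appT tabs CG.ThC.t76 0xfff) 1 23 = true := by decide +kernel
theorem c84 : md3.chk (appT tabs CG.ThC.t76 0xfff) 1 15 = true := by decide +kernel
theorem c85 : md4.chk (appT tabs CG.ThC.t76 0xfff) 1 1 = true := by decide +kernel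
theorem c86 : md5.chk (appT tabs CG.ThC.t76 0xfff) 1 1 = true := by decide +kernel
theorem c87 : md6.chk (appT tabs CG.ThC.t76 0xfff) 1 1 = true := by decide +kernel
theorem c88 : md7.chk (appT tabs CG.ThC.t76 0xfff) 1 1 = true := by decide +kernel
theorem c89 : okcb 270 12 (bases md) = true := by decide +kernel
theorem c90 : headAll (appT tabs CG.ThC.t76 0xfff) md [] = true := by decide +kernel
theorem c91 : trChk (appT tabs CG.ThC.t76 0xfff) md0 [md1, md2, md3, md4, md5, md6, md7] mdB (diagQ eQ) (diagQ eR) eF 0 270 = true := by decide +kernel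

end Cfsg.Agent.SpO.Th
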