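import Cfsg.Agent.Lib.SpO.Th.C0

set_option autoImplicit false
set_option maxRecDepth 100000
set_option Elab.async false
set_option linter.unusedSectionVars false

namespace Cfsg.Agent.SpO.Th
open Cfsg.Agent.CG Cfsg.Agent.SpO

theorem ext : ExtOK CG.ThC.act 270 12 app 76 146 slp where
  ok_iff _ := Iff.rfl
  old := appT_congr (tabs := CG.ThC.tabs) rfl rfl
  defs := allRange_of_allL (l := [76,77,78,79,80,81,82,83,84,85,86,87,88,89,90,91,92,93,94,95,96,97,98,99,100,101,102,103,104,105,106,107,108,109,110,111,112,113,114,115,116,117,118,119,120,121,122,123,124,125,126,127,128,129,130,131,132,133,134,135,136,137,138,139,140,141,142,143,144,145]) (by decide +kernel) (allL_cons c0 (allL_cons c1 (allL_cons c2 (allL_cons c3 (allL_cons c4 (allL_cons c5 (allL_cons c6 (allL_cons c7 (allL_cons c8 (allL_cons c9 (allL_cons c10 (allL_cons c11 (allL_cons c12 (allL_cons c13 (allL_cons c14 (allL_cons c15 (allL_cons c16 (allL_cons c17 (allL_cons c18 (allL_cons c19 (allL_cons c20 (allL_cons c21 (allL_cons c22 (allL_cons c23 (allL_cons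 c24 (allL_cons c25 (allL_cons c26 (allL_cons c27 (allL_cons c28 (allL_cons c29 (allL_cons c30 (allL_cons c31 (allL_cons c32 (allL_cons c33 (allL_cons c34 (allL_cons c35 (allL_cons c36 (allL_cons c37 (allL_cons c38 (allL_cons c39 (allL_cons c40 (allL_cons c41 (allL_cons c42 (allL_cons c43 (allL_cons c44 (allL_cons c45 (allL_cons c46 (allL_cons c47 (allL_cons c48 (allL_cons c49 (allL_cons c50 (allL_cons c51 (allL_cons c52 (allL_cons c53 (allL_cons c54 (allL_cons c55 (allL_cons c56 (allL_cons c57 (allL_cons c58 (allL_cons c59 (allL_cons c60 (allL_cons c61 (allL_cons c62 (allL_cons c63 (allL_cons c64 (allL_cons c65 (allL_cons c66 (allL_cons c67 (allL_cons c68 (allL_cons c69 (allL_nil _)))))))))))))))))))))))))))))))))))))))))))))))))))))))))))))))))))))))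
  lt := by decide +kernel
  triv := appT_triv (by decide +kernel)
  trivk := c70

noncomputable def act : Act PG (Fin 270) := ext.act

theorem hok : ∀ x, act.ok x ↔ okc 270 12 x := fun _ => Iff.rfl

theorem hsur : ∀ p, ∃ i, i < 270 ∧ p = act.pt (12 * i) := DC.act_surj CG.ThC.tabOK

theorem card : Nat.card PG = 46448640 := CG.ThC.card

theorem base0 : act.IsBase bs0 := CG.ThC.base

theorem hinv : ∀ a, act.gen (inv a) = (act.gen a)⁻¹ :=
  ext.inv (by decide) CG.ThC.base (by decide +kernel) (by decide +kernel)

theorem ev_old {v : List ℕ} (e : ltAll 76 v = true) : ev act.gen v = ev CG.ThC.act.gen v := ext_ev ext e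

theorem pc_ok : ChainOK act pc [] :=
  chainOK_of_chk act pc [] (by simp) (okc_of_okcb c79) c80
  (allL_cons c71 (allL_cons c72 (allL_cons c73 (allL_cons c74 (allL_cons c75 (allL_cons c76 (allL_cons c77 (allL_cons c78 (allL_nil _)))))))))

theorem md_ok : ChainOK act md [] :=
  chainOK_of_chk act md [] (by simp) (okc_of_okcb c89) c90
  (allL_cons c81 (allL_cons c82 (allL_cons c83 (allL_cons c84 (allL_cons c85 (allL_cons c86 (allL_cons c87 (allL_cons c88 (allL_nil _)))))))))

theorem md_le : Nat.card PG ≤ prodN md := card.trans_le ((ble_iff _ _).1 (by decide +kernel))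

theorem md_base : act.IsBase mdB := (show bases md = mdB from (eqL_iff _ _).1 (by decide +kernel)) ▸ md_ok.isBase md_le

theorem e_cent : ∀ g ∈ Subgroup.centralizer (cl act.gen eS : Set PG), ∃ φ ∈ eF, g = ev act.gen φ :=
  centralizer_subset (l := md0) (L := [md1, md2, md3, md4, md5, md6, md7]) md_ok md_le md_base (Q := eQ) (Rf := eR) (by decide +kernel) (by decide +kernel) (by decide +kernel)
    c91

theorem p_card : 387072 ≤ Nat.card (cl act.gen [0,1,2,3,4,5,6]) :=
  ((ble_iff _ _).1 (by decide +kernel)).trans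
    (ext_le_card ext (lo := 76) (cnt := 34) (by decide) (by decide) (by decide +kernel) pc_ok (by decide +kernel))

end Cfsg.Agent.SpO.Th
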