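import Cfsg.Agent.Lib.SpO.Th.Mod
import Cfsg.Agent.Lib.SpO.Th.XMain
import Cfsg.Agent.Lib.SpO.Two

/-! The Thompson group: the centraliser of an involution. -/

set_option autoImplicit false
set_option maxRecDepth 100000
set_option maxHeartbeats 400000

namespace Cfsg.Agent.SpO.Th
open Cfsg.Agent.CG Cfsg.Agent.DC Cfsg.Agent.TCX Cfsg.Agent.Id Matrix

theorem lenC : M.OC.length = 270 := by decide +kernel

/-- The vectors permuted by the centraliser. -/
noncomputable def vec (p : Fin 270) : V := A.pt (nth M.OC 0 p)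

theorem memC {i : ℕ} (h : i < 270) : nth M.OC 0 i ∈ M.OC := nth_mem (lenC ▸ h)

theorem vec_inj : Function.Injective vec := fun i j e => by
  have := A.inj _ _ (okC _ (memC i.2)) (okC _ (memC j.2)) e
  rw [nth_eq, nth_eq, List.getD_eq_getElem _ _ (i.2.trans_eq lenC.symm),
    List.getD_eq_getElem _ _ (j.2.trans_eq lenC.symm),
    (nodup_of_ndL ((band_eq _ _).1 M.kC).2).getElem_inj_iff] at this
  exact Fin.ext this

/-- The elements fixing the first vector, with their action on the permuted vectors. -/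
def Γ : Subgroup (G × PG) where
  carrier := {x | x.1 • A.pt M.w0 = A.pt M.w0 ∧ ∀ p, x.1 • vec p = vec (x.2 • p)}
  one_mem' := ⟨one_smul _ _, fun p => by simp⟩
  mul_mem' {x y} hx hy := ⟨by rw [Prod.fst_mul, mul_smul, hy.1, hx.1], fun p => by
    rw [Prod.fst_mul, Prod.snd_mul, mul_smul, mul_smul, hy.2, hx.2]⟩
  inv_mem' {x} hx := ⟨inv_smul_eq_iff.2 hx.1.symm, fun p => by
    rw [Prod.fst_inv, Prod.snd_inv, inv_smul_eq_iff, hx.2, smul_inv_smul]⟩

/-- The first projection. -/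
noncomputable def p : Γ →* G := (MonoidHom.fst _ _).comp Γ.subtype

/-- The second projection. -/
noncomputable def q : Γ →* PG := (MonoidHom.snd _ _).comp Γ.subtype

theorem p_w0 (x : Γ) : p x • A.pt M.w0 = A.pt M.w0 := x.2.1

theorem p_vec (x : Γ) (i : Fin 270) : p x • vec i = vec (q x • i) := x.2.2 i

theorem p_inj : Function.Injective p := (injective_iff_map_eq_one p).2 fun x e =>
  Subtype.ext (Prod.ext e (Subtype.ext (Equiv.ext fun i => vec_inj (by
    have := p_vec x i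
    rw [e, one_smul] at this
    exact this.symm))))

theorem fx {a : ℕ} (h : a ∈ M.cS) : l a • A.pt M.w0 = A.pt M.w0 :=
  ev_singleton l a ▸ mw_smul (okn (by norm_num)) ((allL_iff _ _).1 M.fx a h)

theorem nth_mw (w : List ℕ) (i : Fin 270) : A.pt (nth (M.mw w M.OC) 0 i) = ev l w • vec i := by
  rw [Ablk w _ okC, nth_eq, List.getD_eq_getElem _ _ (by simp [lenC]), List.getElem_map, ← List.getD_eq_getElem _ 0,
    ← nth_eq]
  exact (A.ev_smul w (okC _ (memC i.2))).symm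

theorem gen_mem {a : ℕ} (h : a < 9) : (l (a + 2), act.gen a) ∈ Γ := by
  refine ⟨fx ((show ∀ a < 9, a + 2 ∈ M.cS by decide) a h), fun i => ?_⟩
  have h1 := nth_mw [a + 2] i
  rw [(eqL_iff _ _).1 ((allLt_iff _ _).1 M.lk a h), ev_singleton, nth_eq, List.getD_eq_getElem _ _ (by simp),
    List.getElem_map, List.getElem_range] at h1
  obtain ⟨j, h2, h3⟩ := CG.ThC.act.ok_app a _ (okc_mul i)
  have h4 := CG.ThC.act.smul_pt a _ (okc_mul i)
  have h5 : ∀ k : Fin 270, CG.ThC.act.pt (12 * k) = k := ptc_mul' (by norm_num)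
  rw [h5, h3, h5 ⟨j, h2⟩] at h4
  have h6 : act.gen a = CG.ThC.act.gen a := ext.gen_lt (by omega)
  have h7 : Nat.div (ThC.app a (Nat.mul 12 i)) 12 = j := (congrArg (· / 12) h3).trans (by simp)
  change l (a + 2) • vec i = vec (act.gen a • i)
  rw [← h1, h6, h4, h7]; rfl

/-- The letters of the centraliser. -/
noncomputable def γ (a : ℕ) : Γ := if h : a < 9 then ⟨_, gen_mem h⟩ else 1

theorem pγ {a : ℕ} (h : a < 9) : p (γ a) = l (a + 2) := by rw [γ, dif_pos h]; rfl

theorem qγ {a : ℕ} (h : a < 9) : q (γ a) = act.gen a := by rw [γ, dif_pos h]; rfl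

theorem a_mem : (l 0, 1) ∈ Γ := by
  refine ⟨fx (a := 0) (by decide), fun i => ?_⟩
  have h : M.mw [0] M.OC = M.OC := (eqL_iff _ _).1 M.lk0
  have := nth_mw [0] i
  rw [h, ev_singleton] at this
  change l 0 • vec i = vec ((1 : PG) • i)
  rw [one_smul]; exact this.symm

/-- The central involution. -/
noncomputable def z : Γ := ⟨_, a_mem⟩

theorem pz : p z = l 0 := rfl

theorem qz : q z = 1 := rfl

theorem sat {g : G} {x : Γ} (h : ρ g = ρ (p x)) : ∃ y, p y = g ∧ q y = q x :=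
  ⟨⟨(g, q x), by rw [smul_def, h]; exact p_w0 x, fun i => by rw [smul_def, h]; exact p_vec x i⟩, rfl, rfl⟩

attribute [irreducible] γ z p q

theorem pw {w : List ℕ} (h : ∀ a ∈ w, a < 9) : p (ev γ w) = ev l (w.map (· + 2)) := by
  rw [map_ev, ev_congr _ fun a ha => pγ (h a ha)]; simp [ev, Function.comp_def]

theorem qw {w : List ℕ} (h : ∀ a ∈ w, a < 9) : q (ev γ w) = ev act.gen w := by
  rw [map_ev, ev_congr _ fun a ha => qγ (h a ha)]

theorem q_surj : Function.Surjective q := mem_cl CG.ThC.tabOK.cl_eq_top (MonoidHom.id _) (K := q.range) fun a ha =>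
  ⟨_, (qγ (List.mem_range.1 ha)).trans (ext.gen_lt ((List.mem_range.1 ha).trans (by norm_num)))⟩

theorem ρa : ρ (l 0) ≠ 1 := by simpa using gne M.a1

theorem z_ne : z ≠ 1 := fun e => ρa (by rw [← pz, e, map_one, map_one])

theorem two : f.range ⊓ A.fix [M.w0] ≤ p.range ∧ ∀ x, p x ∈ f.range ⊓ A.fix [M.w0] → q x = 1 → x = 1 ∨ x = z :=
  ker_two p_inj q (by norm_num) card_St p_card (cl_le _ fun a ha => by
    have h : a < 7 := (show ∀ a ∈ [0, 1, 2, 3, 4, 5, 6], a < 7 by decide) a ha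
    exact ⟨γ a, ⟨⟨_, ((pγ (by omega)).trans (fl (by omega))).symm⟩, all_cons (p_w0 _) all_nil⟩, qγ (by omega)⟩)
    ⟨⟨_, (pz.trans (fl (by norm_num))).symm⟩, all_cons (p_w0 _) all_nil⟩ qz z_ne

theorem ker_q {x : Γ} (h : q x = 1) : x = 1 ∨ x = z :=
  two.2 x ⟨mem_H (L := [0, 1, 2, 3].map vec) (List.Nodup.map vec_inj (by decide)) (by simp) fun v hv => by
    obtain ⟨i, hi, rfl⟩ := List.mem_map.1 hv
    exact ⟨⟨_, (memL_iff _ _).1 ((allL_iff _ _).1 M.nn i ((show ∀ i ∈ ([0, 1, 2, 3] : List (Fin 270)), i.1 ∈ M.nL by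
      decide) i hi)), rfl⟩, by rw [p_vec, h, one_smul]⟩, all_cons (p_w0 _) all_nil⟩ h

theorem l_mem {a : ℕ} (h : a ∈ M.cS) : l a ∈ p.range := by
  rcases (show ∀ a ∈ M.cS, a = 0 ∨ ∃ b < 9, a = b + 2 by decide) a h with rfl | ⟨b, hb, rfl⟩
  exacts [⟨_, pz⟩, ⟨_, pγ hb⟩]

theorem mem_K {g : G} (h : g * l 0 = l 0 * g) : g ∈ p.range := by
  rcases stab (fix_w0 h) with h1 | ⟨s, h1, s', h2, w, h3, h4⟩
  · exact two.1 ⟨h1, all_cons (fix_w0 h) all_nil⟩
  · obtain ⟨x, hx⟩ := mul_mem (mul_mem (two.1 h1) (ev_mem l fun a ha => l_mem (h3 a ha))) (two.1 h2)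
    obtain ⟨y, hy, -⟩ := sat (h4.trans (congrArg ρ hx.symm))
    exact ⟨y, hy⟩

theorem ρ_inj : Function.Injective ρ := (injective_iff_map_eq_one ρ).2 fun g e => by
  obtain ⟨y, rfl, hy⟩ := sat (g := g) (x := 1) (by rw [e, map_one, map_one])
  rcases ker_q (hy.trans (map_one q)) with rfl | rfl
  · exact map_one p
  · exact absurd (pz ▸ e) ρa

theorem geq {v w : List ℕ} (h : eqB M.mw M.bas v w = true) : ev l v = ev l w := ρ_inj (by rw [ρw, ρw, meq h])

theorem zc (x : Γ) : x * z = z * x :=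
  mul_inv_eq_iff_eq_mul.1 ((ker_q (x := x * z * x⁻¹) (by simp [qz])).resolve_left (by simpa using z_ne))

theorem zz : z * z = 1 := (ker_q (by simp [qz])).resolve_right (by simpa using z_ne)

end Cfsg.Agent.SpO.Th
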