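import Cfsg.Agent.Lib.SpO.Th.MDef
import Cfsg.Agent.Lib.Grp.TD4.Defs

set_option autoImplicit false
set_option maxRecDepth 100000
set_option Elab.async false

namespace Cfsg.Agent.SpO.Th.M
open Cfsg.Agent.CG Cfsg.Agent.Id

def R2 : List (List ℕ) := [[9,9,2,0],[10,0,9,0],[10,2,9,2],[10,4,9,4],[3,4,10,3,9,3,4,10,3,9],[10,1,2,0,1,9,1,0,2,1,4],
  [3,10,3,1,2,0,1,3,9,3,1,0,2,1,2,4,3,10,3,1,2,0,1,4,10],[10,7,9,7],[4,6,6,10,5,5,4,6,6,9,5,5],[0,2,6,10,6,10,6,10],
  [0,2,6,10,5,9,6,10,5,9,6,10,5,9,6,10,5,9],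
  [3,6,6,9,5,5,3,6,6,9,5,5,3,6,6,9,5,5,3,6,6,9,5,5,6,6,4,3,2,3,4,5,5,5,4,3,2,3,4,6,3,2,3,2,0]]

theorem r1 : allL one (TD4.tcR.take 13) = true := by decide +kernel
theorem r2 : allL one ((TD4.tcR.drop 13).take 3) = true := by decide +kernel
theorem r3 : allL one ((TD4.tcR.drop 16).take 6) = true := by decide +kernel
theorem r4 : allL one (TD4.tcR.drop 22) = true := by decide +kernel
theorem r5 : allL one (R2.take 6) = true := by decide +kernel
theorem r6 : allL one ((R2.drop 6).take 3) = true := by decide +kernel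
theorem r7 : allL one ((R2.drop 9).take 2) = true := by decide +kernel
theorem r8 : allL one (R2.drop 11) = true := by decide +kernel

end Cfsg.Agent.SpO.Th.M
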