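import Cfsg.Agent.Lib.SpO.Th.MDef

set_option autoImplicit false
set_option maxRecDepth 100000
set_option Elab.async false

namespace Cfsg.Agent.SpO.Th.M
open Cfsg.Agent.CG Cfsg.Agent.Id

theorem t0 : tr 0 = true := by decide +kernel
theorem t1 : tr 1 = true := by decide +kernel
theorem t2 : tr 2 = true := by decide +kernel
theorem t3 : tr 3 = true := by decide +kernel
theorem t4 : tr 4 = true := by decide +kernel
theorem t5 : tr 5 = true := by decide +kernel
theorem t7 : tr 7 = true := by decide +kernel
theorem t9 : tr 9 = true := by decide +kernel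
theorem dg : allLt (fun i => Nat.beq (dig (2 ^ 8) (nth m0 0 i) i) (dig (2 ^ 8) w0 i)) 249 = true := by decide +kernel

end Cfsg.Agent.SpO.Th.M
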