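import Cfsg.Agent.Lib.SpO.Th.MDef

set_option autoImplicit false
set_option maxRecDepth 100000
set_option Elab.async false

namespace Cfsg.Agent.SpO.Th.M
open Cfsg.Agent.CG Cfsg.Agent.Id

theorem e1 : meet (nth cwL [] 1) = true := by decide +kernel
theorem e2 : meet (nth cwL [] 2) = true := by decide +kernel
theorem e3 : meet (nth cwL [] 3) = true := by decide +kernel
theorem e4 : meet (nth cwL [] 4) = true := by decide +kernel
theorem e5 : meet (nth cwL [] 5) = true := by decide +kernel
theorem e6 : meet (nth cwL [] 6) = true := by decide +kernel
theorem e7 : meet (nth cwL [] 7) = true := by decide +kernel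

end Cfsg.Agent.SpO.Th.M
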