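import Cfsg.Agent.Lib.SpO.Th.MDef
import Cfsg.Agent.Lib.Grp.ThC.Defs

set_option autoImplicit false
set_option maxRecDepth 100000
set_option Elab.async false

namespace Cfsg.Agent.SpO.Th.M
open Cfsg.Agent.CG Cfsg.Agent.Id

theorem e8 : meet (nth cwL [] 8) = true := by decide +kernel
theorem e9 : meet (nth cwL [] 9) = true := by decide +kernel
theorem e10 : meet (nth cwL [] 10) = true := by decide +kernel
theorem kk : allL kapOK kap = true := by decide +kernel
theorem lk : allLt (fun a => eqL (mw [a + 2] OC)
    ((List.range 270).map fun i => nth OC 0 (Nat.div (ThC.app a (Nat.mul 12 i)) 12))) 9 = true := by decide +kernel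
theorem lk0 : oneB mw OC [0] = true := by decide +kernel
theorem fx : allL (fun a => oneB mw [w0] [a]) [0, 2, 3, 4, 5, 6, 7, 8, 9, 10] = true := by decide +kernel
theorem nn : allL (fun i => memL (nth OC 0 i) O) nL = true := by decide +kernel
theorem yc : eqL (mw [1, 0, 2, 1] [w0]) [nth OC 0 0] = true := by decide +kernel
theorem a1 : neB mw (nth O 0 1) [0] [] = true := by decide +kernel

end Cfsg.Agent.SpO.Th.M
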