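import Cfsg.Agent.Lib.SpO.Th.MDef

set_option autoImplicit false
set_option maxRecDepth 100000
set_option Elab.async false

namespace Cfsg.Agent.SpO.Th.M
open Cfsg.Agent.CG Cfsg.Agent.Id

theorem kp0 : keepB mw O [0] = true := by decide +kernel
theorem kp1 : keepB mw O [1] = true := by decide +kernel
theorem kp2 : keepB mw O [2] = true := by decide +kernel
theorem kp3 : keepB mw O [3] = true := by decide +kernel
theorem kp4 : keepB mw O [4] = true := by decide +kernel
theorem kp5 : keepB mw O [5] = true := by decide +kernel
theorem kp7 : keepB mw O [7] = true := by decide +kernel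
theorem tree : treeB mw O 9 par lab 1 818 = true := by decide +kernel

end Cfsg.Agent.SpO.Th.M
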