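import Cfsg.Agent.Lib.SpO.Th.MDef

set_option autoImplicit false
set_option maxRecDepth 100000
set_option Elab.async false

namespace Cfsg.Agent.SpO.Th.M
open Cfsg.Agent.CG Cfsg.Agent.Id

def cS : List ℕ := [0, 2, 3, 4, 5, 6, 7, 8, 9, 10]
def yw : List ℕ := [1, 0, 2, 1]
/-- The letters as products of squares. -/
def sqL : List (ℕ × List (List ℕ)) := [(0, [[2, 3, 2, 3]]), (2, [[10], [2, 3, 2, 3]]),
  (3, [[3, 4, 3, 4], [6, 6], [4, 6], [5, 5, 5]]), (4, [[6, 6], [4, 6], [5, 5, 5]]), (5, [[6, 6, 6]]), (6, [[5, 5, 5]]),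
  (7, [[8]]), (8, [[7]]), (9, [[9], [6, 10], [5, 5, 5]]), (10, [[9], [9], [6, 10], [5, 5, 5]])]
def sqW (L : List (List ℕ)) : List ℕ := (L.map fun w => w ++ w).flatten
def yL : List (ℕ × List ℕ) := [(0, [2]), (2, [0]), (4, [4]), (5, [5]), (7, [7]), (9, [9, 4])]
noncomputable def img (a : ℕ) : List ℕ := nth [[0], [], [], [3]] yw a
noncomputable def candOK (v : List ℕ) : Bool :=
  bor (neB mw (nth O 0 1) (v ++ v) []) (bor (eqB mw bas v yw) (eqB mw bas (v ++ [0]) (0 :: yw)))

theorem sq : allL (fun q => eqB mw bas [q.1] (sqW q.2)) sqL = true := by decide +kernel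
theorem yy : allL (fun q => eqB mw bas (yw ++ [q.1]) (q.2 ++ yw)) yL = true := by decide +kernel
theorem y2 : one (yw ++ yw) = true := by decide +kernel
theorem bb : eqB mw bas [1] (substW img bw) = true := by decide +kernel
theorem cand : allL (fun φ => allL (fun ψ => candOK (yw ++ φ ++ ψ)) [[], [0]]) [[], [2]] = true := by decide +kernel

end Cfsg.Agent.SpO.Th.M
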