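import Cfsg.Agent.Lib.SpO.Th.MD
import Cfsg.Agent.Lib.SpO.Bit

set_option autoImplicit false
set_option maxRecDepth 100000
set_option Elab.async false

namespace Cfsg.Agent.SpO.Th.M
open Cfsg.Agent.CG Cfsg.Agent.Id

noncomputable def steps : List (ℕ × ℕ) := [(1, 1)]
noncomputable abbrev mw : List ℕ → List ℕ → List ℕ := mapw 8 2 249 steps tabs
noncomputable abbrev bas : List ℕ := basp (2 ^ 8) 1 249
noncomputable def I : List ℕ := [0, 1, 2, 3, 4, 6, 5, 8, 7, 10, 9]
noncomputable abbrev one (v : List ℕ) : Bool := oneB mw bas v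
noncomputable abbrev w0 : ℕ := nth O 0 0
noncomputable def par (i : ℕ) : ℕ := look 0xfff parT (Nat.mul 12 i)
noncomputable def lab (i : ℕ) : ℕ := look 0xff labT (Nat.mul 8 i)
/-- The vectors of `O` carried into `O` by a word are listed. -/
noncomputable def meet (w : List ℕ) : Bool :=
  allL (fun q => bor (bnot (memL q.2 O)) (anyL (fun r => band (eqL r.1 w) (Nat.beq (nth O 0 r.2.1) q.1)) kap))
    (zipL O (mw w O))
noncomputable def kapOK (r : List ℕ × ℕ × List ℕ × List ℕ × List ℕ) : Bool :=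
  band (eqL (mw r.2.2.1 [w0]) [nth O 0 r.2.1]) (band (eqL (mw r.1 [nth O 0 r.2.1]) (mw r.2.2.2.1 [w0]))
    (eqB mw bas (app2 r.1 r.2.2.1) (app2 r.2.2.2.1 r.2.2.2.2)))
noncomputable abbrev tr (a : ℕ) : Bool :=
  trOK (2 ^ 8) 249 (nth tabs (idc (2 ^ 8) 249) a) (nth tabs (idc (2 ^ 8) 249) (nth I 11 a))

theorem k0 : tabsOK (2 ^ 8) 2 249 tabs = true := tabsOK_of (by decide +kernel) (by decide +kernel)
theorem ks : redOK 8 2 249 steps = true := by decide +kernel
theorem k1 : invB mw bas I 11 = true := by decide +kernel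
theorem kO : band (okM 249 O) (ndL O) = true := by decide +kernel
theorem kC : band (okM 249 OC) (ndL OC) = true := by decide +kernel

end Cfsg.Agent.SpO.Th.M
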