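import Cfsg.Agent.Lib.SpO.Th.MC1
import Cfsg.Agent.Lib.SpO.Th.MC2
import Cfsg.Agent.Lib.SpO.Th.MC3
import Cfsg.Agent.Lib.SpO.Th.MC4
import Cfsg.Agent.Lib.SpO.Th.MC5
import Cfsg.Agent.Lib.SpO.Th.MC6
import Cfsg.Agent.Lib.SpO.Ut
import Cfsg.Agent.Lib.DC.ThG

/-! The Thompson group: a module of dimension 249 over the field with two elements. -/

set_option autoImplicit false
set_option maxRecDepth 100000

namespace Cfsg.Agent.SpO.Th
open Cfsg.Agent.CG Cfsg.Agent.DC Cfsg.Agent.TCX Cfsg.Agent.Id Matrix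

theorem blk0 : IsBlk (apppT (2 ^ 8) 2 (1 * 249) M.tabs (idc (2 ^ 8) 249))
    (fun x => red (2 ^ 8) 2 (1 * 249) x = x) M.mw :=
  isBlk_mapw (by norm_num) (by norm_num) (by norm_num) (by norm_num) (by norm_num) M.ks M.k0

/-- The matrices. -/
noncomputable def c : MatCode (Fin 249) (ZMod 2) :=
  code1 (2 ^ 8) 2 249 (by norm_num) (by norm_num) M.tabs M.I 11 (by decide +kernel) M.k0
    (blk0.inv (ok_bas M.k0) M.k1)

theorem blk : IsBlk c.act.app c.act.ok M.mw := blk0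

theorem okO : ∀ x ∈ M.O, c.act.ok x := red_of_okM ((band_eq _ _).1 M.kO).1

theorem okC : ∀ x ∈ M.OC, c.act.ok x := red_of_okM ((band_eq _ _).1 M.kC).1

theorem meq {v w : List ℕ} (h : eqB M.mw M.bas v w = true) : ev c.act.gen v = ev c.act.gen w :=
  c.base.ev_eq (blk0.eq (ok_bas M.k0) h)

theorem mone {v : List ℕ} (h : M.one v = true) : ev c.act.gen v = 1 := c.base.ev_eq (blk0.one (ok_bas M.k0) h)

theorem ctr {a : ℕ} (h : M.tr a = true) : (c.mat a)ᵀ = c.mat (c.inv a) := by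
  ext i j
  rw [transpose_apply]
  exact (code1_mat _ _ _ _ _ _ _ _ _ _ _ a j i).trans ((congrArg _ (trOK_spec h i.2 j.2)).trans
    (code1_mat _ _ _ _ _ _ _ _ _ _ _ (c.inv a) i j).symm)

theorem csym : (c.mat 0)ᵀ = c.mat 0 := ctr M.t0

theorem cdiag : (c.mat 0).diag = c.act.pt M.w0 := funext fun i =>
  (code1_mat _ _ _ _ _ _ _ _ _ _ _ 0 i i).trans ((congrArg _ ((beq_iff _ _).1 ((allLt_iff _ _).1 M.dg i i.2))).trans
    (code1_pt _ _ _ _ _ _ _ _ _ _ _ M.w0 i).symm)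

abbrev G : Type := Spor.Th
abbrev H : Type := CG.TD4.PG
abbrev V : Type := Fin 249 → ZMod 2

instance finG : Finite G := ThG.finite

/-- The embedding of the table group. -/
noncomputable def f : H →* G := ThG.model.choose

/-- The extra generator. -/
noncomputable def u : G := tauG Spor.Th.edges Spor.Th.extra ThG.gl 0

/-- The letters. -/
noncomputable abbrev l : ℕ → G := lt CG.TD4.act.gen f u 9

theorem spec : (∀ r ∈ ThG.R1, ev (tokv CG.TD4.act.gen f fun _ => u) r = 1) ∧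
    ∀ g, ev (tokv CG.TD4.act.gen f fun _ => u) (sbW Thb.iv ThG.ws (ThG.code g)).1 = PresentedGroup.of g :=
  ThG.model.choose_spec

attribute [irreducible] f u

theorem top : Subgroup.closure (Set.range f ∪ {u}) = ⊤ := top_of_model spec.2

theorem rel1 : ∀ v ∈ CG.TD4.tcR, M.one v = true := by
  have e : CG.TD4.tcR = CG.TD4.tcR.take 13 ++ ((CG.TD4.tcR.drop 13).take 3 ++ ((CG.TD4.tcR.drop 16).take 6 ++
    CG.TD4.tcR.drop 22)) := rfl
  intro q hq
  rw [e, List.mem_append, List.mem_append, List.mem_append] at hq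
  rcases hq with h | h | h | h
  exacts [(allL_iff _ _).1 M.r1 q h, (allL_iff _ _).1 M.r2 q h, (allL_iff _ _).1 M.r3 q h, (allL_iff _ _).1 M.r4 q h]

theorem rel2 : ∀ v ∈ M.R2, M.one v = true := by
  have e : M.R2 = M.R2.take 6 ++ ((M.R2.drop 6).take 3 ++ ((M.R2.drop 9).take 2 ++ M.R2.drop 11)) := rfl
  intro q hq
  rw [e, List.mem_append, List.mem_append, List.mem_append] at hq
  rcases hq with h | h | h | h
  exacts [(allL_iff _ _).1 M.r5 q h, (allL_iff _ _).1 M.r6 q h, (allL_iff _ _).1 M.r7 q h, (allL_iff _ _).1 M.r8 q h]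

theorem exρ : ∃ ρ : G →* GL (Fin 249) (ZMod 2), ∀ a, ρ (l a) = c.act.gen a :=
  exists_hom (R' := ThG.R1) CG.TD4.bounds CG.TD4.rels CG.TD4.clS CG.TD4.card.ge Thb.hiv Thb.h256 spec.2
    (hs := ThG.h3) (by decide +kernel) (by decide +kernel) (by norm_num) (by decide +kernel) (by decide +kernel)
    (fun a => nth [.a, .b, .c, .d, .e, .s, .s, .t] .t a) (by decide +kernel) .u rfl _ (fun v hv => mone (rel1 v hv))
    (fun v hv => mone (rel2 _ ((show ThG.R1.map (List.map (tm 9)) = M.R2 by decide +kernel) ▸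
      List.mem_map_of_mem (f := List.map (tm 9)) hv))) (code_inv c 9) (code1_triv _ _ _ _ _ _ _ _ _ _ _)

/-- The representation. -/
noncomputable def ρ : G →* GL (Fin 249) (ZMod 2) := exρ.choose

theorem ρl (a : ℕ) : ρ (l a) = c.act.gen a := exρ.choose_spec a

theorem ρw (w : List ℕ) : ρ (ev l w) = ev c.act.gen w := map_ev' ρl w

attribute [irreducible] ρ c

noncomputable instance mod : MulAction G V := MulAction.compHom V ρ

theorem smul_def (g : G) (v : V) : g • v = ρ g • v := rfl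

/-- The coded action on vectors. -/
noncomputable def A : Act G V where
  gen := l
  app := c.act.app
  ok := c.act.ok
  pt := c.act.pt
  ok_app := c.act.ok_app
  smul_pt a x hx := by rw [smul_def, ρl, c.act.smul_pt a x hx]
  inj := c.act.inj

theorem Ablk : IsBlk A.app A.ok M.mw := blk

theorem mw_smul {w : List ℕ} {x y : ℕ} (hx : A.ok x) (h : eqL (M.mw w [x]) [y] = true) : ev l w • A.pt x = A.pt y := by
  rw [eqL_iff, Ablk _ _ (all_cons hx all_nil), List.map_singleton, List.singleton_inj] at h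
  exact h ▸ A.ev_smul w hx

theorem okn {i : ℕ} (h : i < 819) : A.ok (nth M.O 0 i) := okO _ (nth_mem (h.trans_eq (by decide +kernel)))

theorem gne {v w : List ℕ} (h : neB M.mw (nth M.O 0 1) v w = true) : ρ (ev l v) ≠ ρ (ev l w) := by
  rw [ρw, ρw]
  exact ne_of_neW (A := c.act) (okn (by norm_num)) (blk.ne (okn (by norm_num)) h)

theorem fl {a : ℕ} (h : a < 9) : l a = f (CG.TD4.act.gen a) := lt_lt _ _ _ h

theorem f_mem {K : Subgroup G} (h : ∀ a ∈ [0, 1, 2, 3, 4, 5, 7], l a ∈ K) (x : H) : f x ∈ K := by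
  have g : ∀ a ∈ [0, 1, 2, 3, 4, 5, 7], f (CG.TD4.act.gen a) ∈ K := fun a ha =>
    fl ((show ∀ a ∈ [0, 1, 2, 3, 4, 5, 7], a < 9 by decide) a ha) ▸ h a ha
  have g' : ∀ a ∈ [0, 1, 2, 3, 4, 5, 7], f (CG.TD4.act.gen (CG.TD4.inv a)) ∈ K := fun a ha => by
    rw [CG.TD4.hinv, map_inv]; exact inv_mem (g a ha)
  exact mem_cl CG.TD4.clS f (all_cons (g 0 (by simp)) (all_cons (g 1 (by simp)) (all_cons (g 2 (by simp))
    (all_cons (g 3 (by simp)) (all_cons (g 4 (by simp)) (all_cons (g 5 (by simp)) (all_cons (g' 5 (by simp))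
    (all_cons (g 7 (by simp)) (all_cons (g' 7 (by simp)) all_nil))))))))) x

theorem g_mem {K : Subgroup G} (h : ∀ a ∈ [0, 1, 2, 3, 4, 5, 7, 9], l a ∈ K) (x : G) : x ∈ K := by
  refine (show Subgroup.closure (Set.range f ∪ {u}) ≤ K from (Subgroup.closure_le _).2 ?_) (top ▸ Subgroup.mem_top x)
  rintro _ (⟨x, rfl⟩ | rfl)
  · exact f_mem (fun a ha => h a ((show ∀ a ∈ [0, 1, 2, 3, 4, 5, 7], a ∈ [0, 1, 2, 3, 4, 5, 7, 9] by decide) a ha)) x
  · exact lt_self CG.TD4.act.gen f u 9 ▸ h 9 (by simp)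

theorem ρ_orth (g : G) : ρ g ∈ orth (Fin 249) (ZMod 2) := by
  have k : ∀ {a}, M.tr a = true → l a ∈ (orth (Fin 249) (ZMod 2)).comap ρ := fun h => by
    rw [Subgroup.mem_comap, ρl]; exact mem_orth (ctr h)
  exact g_mem (all_cons (k M.t0) (all_cons (k M.t1) (all_cons (k M.t2) (all_cons (k M.t3) (all_cons (k M.t4)
    (all_cons (k M.t5) (all_cons (k M.t7) (all_cons (k M.t9) all_nil)))))))) g

theorem fix_w0 {g : G} (h : g * l 0 = l 0 * g) : g • A.pt M.w0 = A.pt M.w0 := by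
  have := fix_diag (Z := c.act.gen 0) csym (ρ_orth g) (by rw [← ρl, ← map_mul, h, map_mul])
  rwa [MatCode.coe_gen, cdiag] at this

theorem f_keep (h : H) : f h ∈ keep _ (pts_finite A M.O) := by
  have k : ∀ {a}, keepB M.mw M.O [a] = true → l a ∈ keep _ (pts_finite A M.O) := fun h =>
    ev_singleton l _ ▸ mem_keep (A := A) okO (Ablk.keep okO h)
  exact f_mem (all_cons (k M.kp0) (all_cons (k M.kp1) (all_cons (k M.kp2) (all_cons (k M.kp3) (all_cons (k M.kp4)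
    (all_cons (k M.kp5) (all_cons (k M.kp7) all_nil))))))) h

theorem card_St : Nat.card ↥(f.range ⊓ A.fix [M.w0]) ≤ 2 * 387072 := by
  have h1 := orbit_ge Ablk okO (nodup_of_ndL ((band_eq _ _).1 M.kO).2) (n := 818) (by decide +kernel) M.tree
    (H := f.range) fun a ha => ⟨_, (fl ha).symm⟩
  have h2 := Nat.card_le_card_of_surjective _ f.rangeRestrict_surjective
  rw [CG.TD4.card] at h2
  exact Nat.le_of_mul_le_mul_left (h1.trans h2) (by norm_num)

theorem sem : ∀ j, j < 6060 → Sem CG.TD4.act false Thb.facts Thb.nd Thb.rules f (fun _ => u) (fun _ => 1) f.range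
    (Thb.facts.get j) :=
  Thb.sem hz_one (rels_one (rels := Thb.rels) (ThG.more spec.1) (by decide +kernel)) (fun g => ⟨g, rfl⟩)
    (by simp [Thb.lrels])

theorem cover (g : G) : (∃ h, g = f h) ∨ ∃ w, M.meet w = true ∧ ∃ k h, g = f k * ev l w * f h := by
  have k := fun {e : ℕ} {tb : ℕ → ℕ} => forest_sound sem hM_I (fun _ => one_mem _) Thb.hiv CG.TD4.tabOK.w_pos
    (fun _ => Iff.rfl) (act_surj CG.TD4.tabOK) (e := e) (eps := 1) (x0 := 0) ⟨0, by decide, rfl⟩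
    (fun _ hg => stab_passes sem hz_one (fun _ => one_mem _) CG.TD4.chain CG.TD4.card_le Thb.c570 Thb.c571 hg)
    (fin := Thb.fin) (tb := tb)
  obtain ⟨w, h1, _, ⟨k', rfl⟩, h, e⟩ := cover_words CG.TD4.base (r := 9) (ns := [1, 2, 3, 4, 5, 6, 7, 8, 9, 10])
    (cw := nth M.cwL []) (uw := nth M.uwL []) rfl (by decide +kernel) (by decide +kernel)
    (cover_of (M := f.range) (t := u) (fin := Thb.fin) (by decide) (all_cons (k Thb.for0) (all_cons (k Thb.for1)
      (all_cons (k Thb.for2) (all_cons (k Thb.for3) (all_cons (k Thb.for4) (all_cons (k Thb.for5)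
      (all_cons (k Thb.for6) (all_cons (k Thb.for7) (all_cons (k Thb.for8) (all_cons (k Thb.for9)
      (all_cons (k Thb.for10) all_nil))))))))))) top) g
  rcases List.mem_cons.1 h1 with rfl | h1
  · exact Or.inl ⟨k' * h, by simpa [nth, M.cwL] using e⟩
  · exact Or.inr ⟨w, (all_cons M.e1 (all_cons M.e2 (all_cons M.e3 (all_cons M.e4 (all_cons M.e5 (all_cons M.e6
      (all_cons M.e7 (all_cons M.e8 (all_cons M.e9 (all_cons M.e10 all_nil))))))))) :
      ∀ w ∈ [1, 2, 3, 4, 5, 6, 7, 8, 9, 10].map (nth M.cwL []), M.meet w = true) w h1, k', h, e⟩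

theorem meet {w : List ℕ} (hw : M.meet w = true) {k h : H} {v : V} (h1 : v ∈ pts A M.O)
    (h2 : (f k * ev l w * f h) • v ∈ pts A M.O) : ∃ r ∈ M.kap, r.1 = w ∧ f h • v = A.pt (nth M.O 0 r.2.1) := by
  obtain ⟨x, hx, e1⟩ := f_keep h v h1
  obtain ⟨y, hy, e2⟩ := inv_mem (f_keep k) _ h2
  rw [mul_smul, mul_smul, inv_smul_smul, ← e1] at e2
  have e3 := A.inj _ _ (okO y hy) (A.ok_evp w (okO x hx)) (e2.trans (A.ev_smul w (okO x hx)))
  unfold M.meet at hw
  rw [Ablk w _ okO, zipL_map, allL_iff] at hw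
  have := hw _ (List.mem_map_of_mem hx)
  rw [bor_eq, bnot_eq, ← Bool.not_eq_true, memL_iff, anyL_iff] at this
  obtain ⟨r, hr, e4⟩ := this.resolve_left fun h => h (e3 ▸ hy)
  rw [band_eq, eqL_iff, beq_iff] at e4
  exact ⟨r, hr, e4.1, e1 ▸ congrArg A.pt e4.2.symm⟩

theorem mem_H {g : G} {L : List V} (hn : L.Nodup) (hl : 3 < L.length) (h : ∀ v ∈ L, v ∈ pts A M.O ∧ g • v = v) :
    g ∈ f.range := by
  rcases cover g with ⟨k, rfl⟩ | ⟨w, hw, k, k', rfl⟩
  · exact ⟨k, rfl⟩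
  have := (List.subperm_of_subset (hn.map (MulAction.injective (f k')))
    (l₂ := [0, 6, 33].map fun i => A.pt (nth M.O 0 i)) fun x hx => by
      obtain ⟨v, hv, rfl⟩ := List.mem_map.1 hx
      obtain ⟨r, hr, -, e⟩ := meet hw (h v hv).1 ((h v hv).2.symm ▸ (h v hv).1)
      exact List.mem_map.2 ⟨_, (show ∀ r ∈ M.kap, r.2.1 ∈ [0, 6, 33] by decide) r hr, e.symm⟩).length_le
  simp only [List.length_map, List.length_cons, List.length_nil] at this
  omega

theorem stab {g : G} (hg : g • A.pt M.w0 = A.pt M.w0) : g ∈ f.range ∨ ∃ s ∈ f.range ⊓ A.fix [M.w0],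
    ∃ s' ∈ f.range ⊓ A.fix [M.w0], ∃ w, (∀ a ∈ w, a ∈ M.cS) ∧ ρ g = ρ (s * ev l w * s') := by
  rcases cover g with ⟨k, rfl⟩ | ⟨w, hw, k, k', rfl⟩
  · exact Or.inl ⟨k, rfl⟩
  have h0 : A.pt M.w0 ∈ pts A M.O := ⟨_, nth_mem (by decide +kernel), rfl⟩
  obtain ⟨r, hr, rfl, e⟩ := meet hw h0 (hg.symm ▸ h0)
  have h1 := (allL_iff _ _).1 M.kk r hr
  have h2 := (show ∀ r ∈ M.kap, r.2.1 < 819 ∧ (∀ a ∈ r.2.2.2.2, a ∈ M.cS) ∧ ∀ a ∈ r.2.2.1 ++ r.2.2.2.1, a < 9 by decide)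
    r hr
  have h3 : ∀ w : List ℕ, (∀ a ∈ w, a < 9) → ev l w ∈ f.range := fun w hw => ev_mem _ fun a ha => ⟨_, (fl (hw a ha)).symm⟩
  unfold M.kapOK at h1
  rw [band_eq, band_eq, app2_eq, app2_eq, eqL_iff (M.mw r.1 _), Ablk _ _ (all_cons (okn h2.1) all_nil),
    Ablk r.2.2.2.1 _ (all_cons (okn (by norm_num)) all_nil), List.map_singleton, List.map_singleton,
    List.singleton_inj] at h1
  have h4 := mw_smul (okn (by norm_num)) h1.1
  have h5 := congrArg A.pt h1.2.1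
  rw [← A.ev_smul _ (okn h2.1), ← A.ev_smul _ (okn (by norm_num))] at h5
  have h6 := meq h1.2.2
  rw [← ρw, ← ρw, ev_append, ev_append] at h6
  refine Or.inr ⟨f k * ev l r.2.2.2.1, ⟨mul_mem ⟨k, rfl⟩ (h3 _ fun a ha => h2.2.2 a (by simp [ha])),
    all_cons ?_ all_nil⟩, (ev l r.2.2.1)⁻¹ * f k', ⟨f.range.mul_mem (f.range.inv_mem (h3 _ fun a ha => h2.2.2 a
    (by simp [ha]))) ⟨k', rfl⟩, all_cons ?_ all_nil⟩, _, h2.2.1, ?_⟩
  · rw [mul_smul, mul_smul, e] at hg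
    exact (mul_smul _ _ _).trans ((congrArg _ h5.symm).trans hg)
  · rw [mul_smul, e, inv_smul_eq_iff, h4]
  · simp only [map_mul, map_inv] at h6 ⊢
    rw [mul_assoc (ρ (f k)) (ρ (ev l r.2.2.2.1)), ← h6]
    group

end Cfsg.Agent.SpO.Th
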