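import Cfsg.Agent.Lib.SpO.Th.Cen
import Cfsg.Agent.Lib.Grp.ThC.Out

/-! The automorphisms of the Thompson group. -/

set_option autoImplicit false
set_option maxRecDepth 100000
set_option maxHeartbeats 400000

namespace Cfsg.Agent.SpO.Th
open Cfsg.Agent.CG Cfsg.Agent.DC Cfsg.Agent.TCX Cfsg.Agent.Id Matrix

/-- An element exchanging two commuting involutions. -/
noncomputable def y : G := ev l M.yw

theorem ey : ev l M.yw = y := rfl

attribute [irreducible] y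

theorem yl {r : ℕ × List ℕ} (h : r ∈ M.yL) : y * l r.1 = ev l r.2 * y := by
  simpa [ey] using geq ((allL_iff _ _).1 M.yy r h)

theorem y_vec : y • A.pt M.w0 = vec 0 := ey ▸ mw_smul (okn (by norm_num)) M.yc

/-- A conjugate of the first letter. -/
noncomputable def zw (w : List ℕ) : List ℕ := app2 w (0 :: ivw inv w)

theorem ezw (w : List ℕ) : ev act.gen (zw w) = ev act.gen w * act.gen 0 * (ev act.gen w)⁻¹ := by
  rw [zw, app2_eq, ev_append, ev_cons, ev_ivw hinv, mul_assoc]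

theorem norm_a (φ : MulAut G) : ∃ g, (MulAut.conj g * φ : MulAut G) (l 0) = l 0 := by
  have h1 : IsPGroup 2 (Subgroup.closure ((fun w => ev act.gen (zw w)) '' {w | w ∈ M.gw})) := by
    refine isP_of_comm ?_ ?_
    · rintro _ ⟨w, -, rfl⟩
      have : act.gen 0 * act.gen 0 = 1 := mul_eq_one_iff_eq_inv.2 (hinv 0)
      simp only [ezw, conj_mul, this, mul_one, mul_inv_cancel]
    · rintro _ ⟨v, hv, rfl⟩ _ ⟨w, hw, rfl⟩
      simpa [app2_eq] using base0.ev_eq ((allL_iff _ _).1 ((allL_iff _ _).1 (show allL (fun v => allL (fun w =>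
        eqW app bs0 (app2 (zw v) (zw w)) (app2 (zw w) (zw v))) M.gw) M.gw = true by decide +kernel) v hv) w hw)
  have h2 : IsPGroup 2 q.ker := fun x => ⟨1, Subtype.ext (by
    rcases ker_q x.2 with h | h <;> simp [h, sq, zz])⟩
  refine norm_inv ((h1.comap_of_ker_isPGroup q h2).map p) ⟨z, by simp [qz], pz⟩
    (fun e => ρa (by rw [e, map_one])) (fun x hx => ?_) φ
  obtain ⟨x, rfl⟩ := mem_K (hx _ ⟨z, by simp [qz], pz⟩).symm
  have h3 : q x = 1 := base0.2 _ fun b hb => by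
    rw [← (eqL_iff _ _).1 (show eqL (M.gw.map fun w => evp app w 0) bs0 = true by decide +kernel)] at hb
    obtain ⟨w, hw, rfl⟩ := List.mem_map.1 hb
    have h9 : ∀ a ∈ w, a < 9 := (show ∀ w ∈ M.gw, ∀ a ∈ w, a < 9 by decide) w hw
    have h4 := hx _ ⟨ev γ w * γ 0 * (ev γ w)⁻¹, Subgroup.subset_closure ⟨w, hw, by
      simp only [ezw, map_mul, map_inv, qw h9, qγ (show 0 < 9 by norm_num)]⟩, rfl⟩
    have h5 : y * l 0 = l 2 * y := by simpa using yl (r := (0, [2])) (by decide)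
    rw [map_mul, map_mul, map_inv, pγ (by norm_num), eq_mul_inv_of_mul_eq h5.symm] at h4
    have h6 := fix_w0 (g := (p (ev γ w) * y)⁻¹ * p x * (p (ev γ w) * y)) (by
      calc _ = (p (ev γ w) * y)⁻¹ * (p x * (p (ev γ w) * (y * l 0 * y⁻¹) * (p (ev γ w))⁻¹)) * (p (ev γ w) * y) := by
            group
        _ = _ := by rw [← h4]; group)
    rw [mul_smul, mul_smul, inv_smul_eq_iff, mul_smul, y_vec, p_vec, p_vec, qw h9] at h6
    exact (act.ev_smul w ⟨0, by decide, rfl⟩ ▸ vec_inj h6 :)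
  exact (ker_q h3).imp (fun e => by rw [e, map_one]) fun e => by rw [e, pz]

theorem norm_C (φ : MulAut G) : ∃ g, ∀ a ∈ M.cS, (MulAut.conj g * φ : MulAut G) (l a) = l a := by
  obtain ⟨g, hg⟩ := norm_a φ
  obtain ⟨α, hα⟩ := exists_restrict p_inj (MulAut.conj g * φ) fun x => mem_K (by
    conv_lhs => rw [← hg, ← map_mul, ← pz, ← map_mul, zc, map_mul, map_mul, pz, hg])
  obtain ⟨ψ, hψ⟩ := exists_quot q_surj α fun x hx => by
    rcases ker_q hx with rfl | rfl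
    · rw [map_one, map_one]
    · rw [p_inj ((hα z).trans (pz ▸ hg : _ = p z)), qz]
  obtain ⟨π, rfl⟩ : ψ ∈ Inn PG := Subgroup.index_eq_one.1 CG.ThC.card_out ▸ Subgroup.mem_top ψ
  obtain ⟨k, rfl⟩ := q_surj π
  refine ⟨(p k)⁻¹ * g, ?_⟩
  have e : ∀ x, (MulAut.conj ((p k)⁻¹ * g) * φ : MulAut G) (p x) = p (k⁻¹ * α x * k) := fun x => by
    rw [map_mul p, map_mul p, hα, map_inv]; simp [mul_assoc]
  generalize MulAut.conj ((p k)⁻¹ * g) * φ = β at e
  have e2 : ∀ x ∈ p.range, x * x ∈ β.toMonoidHom.eqLocus (MonoidHom.id G) := by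
    rintro _ ⟨x, rfl⟩
    change β _ = _
    rw [map_mul, e, ← map_mul, ← map_mul, MonoidHom.id_apply]
    rcases ker_q (x := x⁻¹ * (k⁻¹ * α x * k)) (by simp [← hψ, mul_assoc]) with h | h
    · rw [← inv_mul_eq_one.1 h]
    · rw [eq_mul_of_inv_mul_eq h, mul_assoc, ← mul_assoc z, ← zc, mul_assoc, zz, mul_one]
  intro a ha
  obtain ⟨r, hr, rfl, h⟩ := (show ∀ a ∈ M.cS, ∃ r ∈ M.sqL, r.1 = a ∧ ∀ w ∈ r.2, ∀ b ∈ w, b ∈ M.cS by decide) a ha
  have : ∀ L : List (List ℕ), (∀ w ∈ L, ∀ b ∈ w, b ∈ M.cS) →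
      ev l (M.sqW L) ∈ β.toMonoidHom.eqLocus (MonoidHom.id G) := fun L hL => by
    induction L with
    | nil => exact one_mem _
    | cons w L ih =>
      rw [show M.sqW (w :: L) = w ++ w ++ M.sqW L from rfl, ev_append, ev_append]
      exact mul_mem (e2 _ (ev_mem _ fun b hb => l_mem (hL w List.mem_cons_self b hb)))
        (ih fun v hv => hL v (List.mem_cons_of_mem _ hv))
  rw [← ev_singleton l, geq ((allL_iff _ _).1 M.sq r hr)]
  exact this _ h

theorem one_of_fix {β : MulAut G} (h : ∀ a ∈ M.cS, β (l a) = l a) (hy : β y = y) : β = 1 := by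
  have k : l 1 ∈ β.toMonoidHom.eqLocus (MonoidHom.id G) := by
    rw [← ev_singleton l, geq M.bb, ev_substW]
    refine ev_mem _ fun a ha => ?_
    rcases (show ∀ a ∈ M.bw, a = 11 ∨ a ∈ M.cS ∧ eqL (M.img a) [a] = true by decide +kernel) a ha with rfl | ⟨h1, h2⟩
    · exact ey ▸ hy
    · rw [(eqL_iff _ _).1 h2, ev_singleton]; exact h a h1
  refine MulEquiv.ext (g_mem (K := β.toMonoidHom.eqLocus (MonoidHom.id G)) fun a ha => ?_)
  rcases (show ∀ a ∈ [0, 1, 2, 3, 4, 5, 7, 9], a = 1 ∨ a ∈ M.cS by decide) a ha with rfl | h1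
  exacts [k, h a h1]

theorem inn_of_fix {β : MulAut G} (h : ∀ a ∈ M.cS, β (l a) = l a) : β ∈ Inn G := by
  have h1 : ∀ r ∈ M.yL, y⁻¹ * β y * l r.1 = l r.1 * (y⁻¹ * β y) := fun r hr => by
    have h2 := (show ∀ r ∈ M.yL, r.1 ∈ M.cS ∧ ∀ a ∈ r.2, a ∈ M.cS by decide) r hr
    have h3 := congrArg β (yl hr)
    have h4 : β (ev l r.2) = ev l r.2 := ev_mem (H := β.toMonoidHom.eqLocus (MonoidHom.id G)) l fun a ha => h a (h2.2 a ha)
    rw [map_mul, map_mul, h _ h2.1, h4] at h3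
    rw [mul_assoc, h3, ← mul_assoc, ← mul_assoc, eq_mul_inv_of_mul_eq (yl hr).symm]
    group
  obtain ⟨μ, hμ⟩ := mem_K (h1 (0, [2]) (by decide))
  obtain ⟨φ, hφ, e⟩ := e_cent (q μ) (mem_cent_cl fun a ha => by
    obtain ⟨h2, r, hr, h3⟩ := (show ∀ a ∈ eS, a < 9 ∧ ∃ r ∈ M.yL, r.1 = a + 2 by decide) a ha
    rw [← qγ h2, ← map_mul, ← map_mul, p_inj (show p (γ a * μ) = p (μ * γ a) by
      rw [map_mul, map_mul, hμ, pγ h2, ← h3, h1 r hr])])
  have h9 := (show ∀ φ ∈ eF, (∀ a ∈ φ, a < 9) ∧ φ.map (· + 2) ∈ [[], [2]] by decide) φ hφ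
  obtain ⟨ψ, hψ, e2⟩ : ∃ ψ ∈ [[], [0]], β y = ev l (M.yw ++ φ.map (· + 2) ++ ψ) := by
    rw [eq_mul_of_inv_mul_eq hμ.symm]
    rcases ker_q (x := (ev γ φ)⁻¹ * μ) (by rw [map_mul, map_inv, qw h9.1, e, inv_mul_cancel]) with h2 | h2
    · exact ⟨[], by simp, by simp [ey, ← inv_mul_eq_one.1 h2, pw h9.1]⟩
    · exact ⟨[0], by simp, by simp [ey, eq_mul_of_inv_mul_eq h2, pw h9.1, pz, mul_assoc]⟩
  have h4 := (allL_iff _ _).1 ((allL_iff _ _).1 M.cand _ h9.2) ψ hψ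
  unfold M.candOK at h4
  rw [bor_eq, bor_eq] at h4
  rcases h4 with h4 | h4 | h4
  · refine absurd (congrArg ρ ?_) (gne h4)
    rw [ev_append _ (_ ++ ψ), ← e2, ← map_mul, ← ey, ← ev_append,
      ρ_inj ((ρw _).trans ((mone M.y2).trans (map_one ρ).symm)), map_one, ev_nil]
  · rw [one_of_fix h (e2.trans ((geq h4).trans ey))]; exact one_mem _
  · have h5 := geq h4
    rw [ev_append, ← e2, ev_cons _ 0 M.yw, ev_singleton, ey] at h5
    refine inn_of_conj (g := (l 0)⁻¹) ?_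
    rw [one_of_fix (β := MulAut.conj (l 0)⁻¹ * β) (fun a ha => ?_) (by simp [mul_assoc, h5])]
    · exact one_mem _
    · obtain ⟨x, hx⟩ := l_mem ha
      simp only [MulAut.mul_apply, h a ha, MulAut.conj_apply, inv_inv]
      rw [← hx, ← pz, mul_assoc, ← map_mul, zc, map_mul, inv_mul_cancel_left]

theorem card_out : Nat.card (Out G) = 1 := card_out_one fun φ =>
  (norm_C φ).elim fun _ h => inn_of_conj (inn_of_fix h)

end Cfsg.Agent.SpO.Th
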