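import Cfsg.Agent.Lib.SpO.Th.D0
import Cfsg.Agent.Lib.Grp.ThC.Main
import Cfsg.Agent.Lib.SpO.Cls

set_option autoImplicit false
set_option maxRecDepth 100000
set_option Elab.async false
set_option linter.unusedSectionVars false

namespace Cfsg.Agent.SpO.Th
open Cfsg.Agent.CG Cfsg.Agent.SpO

noncomputable def tabs : List ℕ := [CG.ThC.t0,CG.ThC.t1,CG.ThC.t2,CG.ThC.t3,CG.ThC.t4,CG.ThC.t5,CG.ThC.t6,CG.ThC.t7,CG.ThC.t8,CG.ThC.t9,CG.ThC.t10,CG.ThC.t11,CG.ThC.t12,CG.ThC.t13,CG.ThC.t14,CG.ThC.t15,CG.ThC.t16,CG.ThC.t17,CG.ThC.t18,CG.ThC.t19,CG.ThC.t20,CG.ThC.t21,CG.ThC.t22,CG.ThC.t23,CG.ThC.t24,CG.ThC.t25,CG.ThC.t26,CG.ThC.t27,CG.ThC.t28,CG.ThC.t29,CG.ThC.t30,CG.ThC.t31,CG.ThC.t32,CG.ThC.t33,CG.ThC.t34,CG.ThC.t35,CG.ThC.t36,CG.ThC.t37,CG.ThC.t38,CG.ThC.t39,CG.ThC.t40,CG.ThC.t41,CG.ThC.t42,CG.ThC.t43,CG.ThC.t44,CG.ThC.t45,CG.ThC.t46,CG.ThC.t47,CG.ThC.t48,CG.ThC.t49,CG.ThC.t50,CG.ThC.t51,CG.ThC.t52,CG.ThC.t53,CG.ThC.t54,CG.ThC.t5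5,CG.ThC.t56,CG.ThC.t57,CG.ThC.t58,CG.ThC.t59,CG.ThC.t60,CG.ThC.t61,CG.ThC.t62,CG.ThC.t63,CG.ThC.t64,CG.ThC.t65,CG.ThC.t66,CG.ThC.t67,CG.ThC.t68,CG.ThC.t69,CG.ThC.t70,CG.ThC.t71,CG.ThC.t72,CG.ThC.t73,CG.ThC.t74,CG.ThC.t75,t76,t77,t78,t79,t80,t81,t82,t83,t84,t85,t86,t87,t88,t89,t90,t91,t92,t93,t94,t95,t96,t97,t98,t99,t100,t101,t102,t103,t104,t105,t106,t107,t108,t109,t110,t111,t112,t113,t114,t115,t116,t117,t118,t119,t120,t121,t122,t123,t124,t125,t126,t127,t128,t129,t130,t131,t132,t133,t134,t135,t136,t137,t138,t139,t140,t141,t142,t143,t144,t145]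
noncomputable abbrev app : ℕ → ℕ → ℕ := appT tabs CG.ThC.t76 0xfff
noncomputable def slpL : List (Bool × List ℕ) := [(false,[0]),
  (false,[1]),
  (false,[2]),
  (false,[3]),
  (true,[79]),
  (false,[5]),
  (true,[81]),
  (false,[81]),
  (true,[83]),
  (false,[77,80,78,79,77]),
  (false,[77,76,77]),
  (false,[76,77,80,78,79,77,76]),
  (false,[78,77,76,77,78]),
  (false,[88]),
  (false,[87,86,85]),
  (false,[87,88,85]),
  (false,[84,87,86,85,83]),
  (false,[84,87,88,87,83]),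
  (false,[83,87,85,86,84]),
  (false,[91]),
  (false,[92]),
  (false,[90]),
  (false,[94]),
  (false,[89,93]),
  (false,[98]),
  (false,[99]),
  (false,[96]),
  (false,[97]),
  (false,[100,103]),
  (false,[100,102]),
  (false,[100,101]),
  (false,[105]),
  (false,[104,106]),
  (false,[107,108]),
  (false,[4,5,2,3]),
  (true,[110]),
  (false,[3]),
  (true,[112]),
  (false,[1,7,1]),
  (true,[114]),
  (false,[2,4,1,110]),
  (true,[116]),
  (false,[0,2,1,2,0]),
  (false,[115,117,118,116]),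
  (true,[119]),
  (false,[117,113,114,117]),
  (true,[121]),
  (false,[112,112,115,113]),
  (true,[123]),
  (false,[113,117,117,112]),
  (true,[125]),
  (false,[126,121,120]),
  (true,[127]),
  (false,[120,122,126,123]),
  (true,[129]),
  (false,[125,119,123]),
  (false,[120,120,125,123]),
  (true,[132]),
  (false,[119,124,119,124]),
  (true,[134]),
  (false,[135,135]),
  (false,[133,131,129]),
  (false,[129,135,128]),
  (false,[131,133,130]),
  (false,[139]),
  (false,[137]),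
  (false,[136,138]),
  (false,[142]),
  (false,[141]),
  (false,[143,144])]
noncomputable def slp (a : ℕ) : Bool × List ℕ := nth slpL (false, []) (Nat.sub a 76)
noncomputable def invL : List ℕ := [0,1,2,4,3,6,5,8,7,10,9,12,11,14,13,16,15,18,17,20,19,22,21,24,23,26,25,28,27,30,29,32,31,34,33,36,35,38,37,40,39,41,42,43,44,45,46,47,48,49,50,51,52,53,54,55,56,57,58,59,60,61,62,63,65,64,67,66,69,68,70,72,71,74,73,75,76,77,78,80,79,82,81,84,83,85,86,87,88,89,90,91,92,93,94,95,96,97,98,99,100,101,102,103,104,105,106,107,108,109,111,110,113,112,115,114,117,116,118,120,119,122,121,124,123,126,125,128,127,130,129,131,133,132,135,134,136,137,138,139,140,141,142,143,144,145]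
noncomputable def inv (a : ℕ) : ℕ := nth invL 146 a
noncomputable abbrev PG := CG.ThC.PG
noncomputable abbrev bs0 : List ℕ := CG.ThC.bs
noncomputable def pc0 : Lvl := ⟨48, [76,77,78,79,80,81,82], 252,
  fun i => look 0xfff pc0c (Nat.mul 12 i), fun i => look 0xff pc0p (Nat.mul 8 i),
  fun i => look 0xff pc0l (Nat.mul 8 i), fun i => look 0xff pc0i (Nat.mul 8 i), fun x => look 0xfff pc0q x, 7⟩
noncomputable def pc1 : Lvl := ⟨240, [83,84,85,86,87], 24,
  fun i => look 0xfff pc1c (Nat.mul 12 i), fun i => look 0xff pc1p (Nat.mul 8 i),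
  fun i => look 0xff pc1l (Nat.mul 8 i), fun i => look 0xff pc1i (Nat.mul 8 i), fun x => look 0xfff pc1q x, 3⟩
noncomputable def pc2 : Lvl := ⟨0, [89], 2,
  fun i => look 0xfff pc2c (Nat.mul 12 i), fun i => look 0xf pc2p (Nat.mul 4 i),
  fun i => look 0xff pc2l (Nat.mul 8 i), fun i => look 0xff pc2i (Nat.mul 8 i), fun x => look 0xfff pc2q x, 1⟩
noncomputable def pc3 : Lvl := ⟨12, [95], 2,
  fun i => look 0xfff pc3c (Nat.mul 12 i), fun i => look 0xf pc3p (Nat.mul 4 i),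
  fun i => look 0xff pc3l (Nat.mul 8 i), fun i => look 0xff pc3i (Nat.mul 8 i), fun x => look 0xfff pc3q x, 1⟩
noncomputable def pc4 : Lvl := ⟨36, [100], 2,
  fun i => look 0xfff pc4c (Nat.mul 12 i), fun i => look 0xf pc4p (Nat.mul 4 i),
  fun i => look 0xff pc4l (Nat.mul 8 i), fun i => look 0xff pc4i (Nat.mul 8 i), fun x => look 0xfff pc4q x, 1⟩
noncomputable def pc5 : Lvl := ⟨96, [104], 2,
  fun i => look 0xfff pc5c (Nat.mul 12 i), fun i => look 0xf pc5p (Nat.mul 4 i),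
  fun i => look 0xff pc5l (Nat.mul 8 i), fun i => look 0xff pc5i (Nat.mul 8 i), fun x => look 0xfff pc5q x, 1⟩
noncomputable def pc6 : Lvl := ⟨132, [107], 2,
  fun i => look 0xfff pc6c (Nat.mul 12 i), fun i => look 0xf pc6p (Nat.mul 4 i),
  fun i => look 0xff pc6l (Nat.mul 8 i), fun i => look 0xff pc6i (Nat.mul 8 i), fun x => look 0xfff pc6q x, 1⟩
noncomputable def pc7 : Lvl := ⟨204, [109], 2,
  fun i => look 0xfff pc7c (Nat.mul 12 i), fun i => look 0xf pc7p (Nat.mul 4 i),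
  fun i => look 0xff pc7l (Nat.mul 8 i), fun i => look 0xff pc7i (Nat.mul 8 i), fun x => look 0xfff pc7q x, 1⟩
noncomputable def pc : List Lvl := [pc0, pc1, pc2, pc3, pc4, pc5, pc6, pc7]
noncomputable def md0 : Lvl := ⟨12, [0,1,2,3,4,5,6,7,8,110,111], 270,
  fun i => look 0xfff md0c (Nat.mul 12 i), fun i => look 0xfff md0p (Nat.mul 12 i),
  fun i => look 0xff md0l (Nat.mul 8 i), fun i => look 0xff md0i (Nat.mul 8 i), fun x => look 0xfff md0q x, 5⟩
noncomputable def md1 : Lvl := ⟨48, [112,113,114,115,116,117,118], 28,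
  fun i => look 0xfff md1c (Nat.mul 12 i), fun i => look 0xff md1p (Nat.mul 8 i),
  fun i => look 0xff md1l (Nat.mul 8 i), fun i => look 0xff md1i (Nat.mul 8 i), fun x => look 0xfff md1q x, 3⟩
noncomputable def md2 : Lvl := ⟨132, [119,120,121,122,123,124,125,126], 24,
  fun i => look 0xfff md2c (Nat.mul 12 i), fun i => look 0xff md2p (Nat.mul 8 i),
  fun i => look 0xff md2l (Nat.mul 8 i), fun i => look 0xff md2i (Nat.mul 8 i), fun x => look 0xfff md2q x, 2⟩
noncomputable def md3 : Lvl := ⟨36, [127,128,129,130,131,132,133,134,135], 16,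
  fun i => look 0xfff md3c (Nat.mul 12 i), fun i => look 0xff md3p (Nat.mul 8 i),
  fun i => look 0xff md3l (Nat.mul 8 i), fun i => look 0xff md3i (Nat.mul 8 i), fun x => look 0xfff md3q x, 2⟩
noncomputable def md4 : Lvl := ⟨96, [136], 2,
  fun i => look 0xfff md4c (Nat.mul 12 i), fun i => look 0xf md4p (Nat.mul 4 i),
  fun i => look 0xff md4l (Nat.mul 8 i), fun i => look 0xff md4i (Nat.mul 8 i), fun x => look 0xfff md4q x, 1⟩
noncomputable def md5 : Lvl := ⟨108, [140], 2,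
  fun i => look 0xfff md5c (Nat.mul 12 i), fun i => look 0xf md5p (Nat.mul 4 i),
  fun i => look 0xff md5l (Nat.mul 8 i), fun i => look 0xff md5i (Nat.mul 8 i), fun x => look 0xfff md5q x, 1⟩
noncomputable def md6 : Lvl := ⟨204, [143], 2,
  fun i => look 0xfff md6c (Nat.mul 12 i), fun i => look 0xf md6p (Nat.mul 4 i),
  fun i => look 0xff md6l (Nat.mul 8 i), fun i => look 0xff md6i (Nat.mul 8 i), fun x => look 0xfff md6q x, 1⟩
noncomputable def md7 : Lvl := ⟨216, [145], 2,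
  fun i => look 0xfff md7c (Nat.mul 12 i), fun i => look 0xf md7p (Nat.mul 4 i),
  fun i => look 0xff md7l (Nat.mul 8 i), fun i => look 0xff md7i (Nat.mul 8 i), fun x => look 0xfff md7q x, 1⟩
noncomputable def md : List Lvl := [md0, md1, md2, md3, md4, md5, md6, md7]
noncomputable def mdB : List ℕ := [12,48,132,36,96,108,204,216]
noncomputable def eS : List ℕ := [0,2,3,5,7]
noncomputable def eQ : List (List ℕ) := [[],
  [7],
  [3,7],
  [2],
  [3,2],
  [7,2],
  [2,3,2],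
  [3,3,2]]
noncomputable def eR : List (List ℕ) := [[0],
  [2],
  [3],
  [5],
  [7]]
noncomputable def eF : List (List ℕ) := [[],
  [0]]

end Cfsg.Agent.SpO.Th
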